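import Mathlib
import Cfsg.Agent.Lib.Helper78.S4415.Defs
import Cfsg.Agent.S3074

/-!
# S4415 (helper78's project), package [FIN] (helper34)

`Extra ρ R z` (order 32, centre `{1, z}`, squares and commutators in `{1, z}`) together with the
four-group `Q ≤ R` not containing `z` gives the second alternative of the conclusion:
`R` is extraspecial of order 32 with an elementary abelian subgroup `Q × ⟨z⟩` of order 8.
-/

set_option autoImplicit false

namespace Cfsg.Agent.Lib.Helper34.S4415

open Cfsg.Agent.Lib.Helper78.S4415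

universe u v

/-- The subgroup `Q × ⟨z⟩` for a central involution `z`. -/
def timesZ {G : Type u} [Group G] (Q : Subgroup G) (z : G) (hzz : z * z = 1)
    (hzc : ∀ g : G, z * g = g * z) : Subgroup G where
  carrier := {a | ∃ q ∈ Q, a = q ∨ a = q * z}
  one_mem' := ⟨1, Q.one_mem, Or.inl rfl⟩
  mul_mem' := by
    rintro a a' ⟨q, hq, h | h⟩ ⟨q', hq', h' | h'⟩
    · exact ⟨q * q', Q.mul_mem hq hq', Or.inl (by rw [h, h'])⟩
    · exact ⟨q * q', Q.mul_mem hq hq', Or.inr (by rw [h, h', mul_assoc])⟩
    · refine ⟨q * q', Q.mul_mem hq hq', Or.inr ?_⟩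
      rw [h, h', mul_assoc, hzc q', ← mul_assoc]
    · refine ⟨q * q', Q.mul_mem hq hq', Or.inl ?_⟩
      rw [h, h', mul_assoc, ← mul_assoc z q' z, hzc q', mul_assoc q' z z, hzz, mul_one]
  inv_mem' := by
    rintro a ⟨q, hq, h | h⟩
    · exact ⟨q⁻¹, Q.inv_mem hq, Or.inl (by rw [h])⟩
    · refine ⟨q⁻¹, Q.inv_mem hq, Or.inr ?_⟩
      have hzi : z⁻¹ = z := inv_eq_of_mul_eq_one_left hzz
      rw [h, mul_inv_rev, hzi, hzc]

theorem mem_timesZ {G : Type u} [Group G] (Q : Subgroup G) (z : G) (hzz : z * z = 1)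
    (hzc : ∀ g : G, z * g = g * z) (a : G) :
    a ∈ timesZ Q z hzz hzc ↔ ∃ q ∈ Q, a = q ∨ a = q * z := Iff.rfl

theorem card_timesZ {G : Type u} [Group G] (Q : Subgroup G) (z : G) (hzz : z * z = 1)
    (hzc : ∀ g : G, z * g = g * z) (hzQ : z ∉ Q) :
    Nat.card ↥(timesZ Q z hzz hzc) = Nat.card ↥Q * 2 := by
  classical
  let e : ↥Q × Bool → ↥(timesZ Q z hzz hzc) := fun x =>
    if x.2 then ⟨(x.1 : G) * z, ⟨x.1, x.1.2, Or.inr rfl⟩⟩ else ⟨(x.1 : G), ⟨x.1, x.1.2, Or.inl rfl⟩⟩
  have he_t : ∀ q : ↥Q, ((e (q, true) : ↥(timesZ Q z hzz hzc)) : G) = (q : G) * z := fun q => rfl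
  have he_f : ∀ q : ↥Q, ((e (q, false) : ↥(timesZ Q z hzz hzc)) : G) = (q : G) := fun q => rfl
  have hinj : Function.Injective e := by
    rintro ⟨q, ε⟩ ⟨q', ε'⟩ h
    have h0 := congrArg Subtype.val h
    cases ε <;> cases ε'
    · rw [he_f, he_f] at h0
      rw [Subtype.ext h0]
    · rw [he_f, he_t] at h0
      exfalso
      apply hzQ
      have h1 : z = (q' : G)⁻¹ * (q : G) := by rw [h0]; group
      rw [h1]
      exact Q.mul_mem (Q.inv_mem q'.2) q.2
    · rw [he_t, he_f] at h0
      exfalso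
      apply hzQ
      have h1 : z = (q : G)⁻¹ * (q' : G) := by rw [← h0]; group
      rw [h1]
      exact Q.mul_mem (Q.inv_mem q.2) q'.2
    · rw [he_t, he_t] at h0
      rw [Subtype.ext (mul_right_cancel h0)]
  have hsurj : Function.Surjective e := by
    rintro ⟨a, q, hq, h | h⟩
    · exact ⟨(⟨q, hq⟩, false), Subtype.ext h.symm⟩
    · exact ⟨(⟨q, hq⟩, true), Subtype.ext h.symm⟩
  rw [← Nat.card_congr (Equiv.ofBijective e ⟨hinj, hsurj⟩), Nat.card_prod,
    Nat.card_eq_fintype_card (α := Bool), Fintype.card_bool]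

/-- Package [FIN]. -/
theorem pkgFin : PkgFin.{u, v} := by
  intro G _ _ V _ _ _ ρ R b Q hS hF z hE
  classical
  obtain ⟨hzR, hzneg, hcard, hsq, hcm, hcen⟩ := hE
  obtain ⟨q₁, q₂, w₁, w₂, w₃, hq₁Q, hq₂Q, hq₁1, hq₂1, hq₁₂, hq₁q₂, hQall, hbq₁, hbq₂, hbw₁, hbw₂,
    hbw₃, hw₁, h11, h12, h13, h21, h22, h23, hdec, hind⟩ := hF
  -- characteristic 3
  have hneg : ∀ w : V, -w = w → w = 0 := by
    intro w h
    have h2 : (2 : ZMod 3) • w = 0 := by
      rw [two_smul]
      nth_rewrite 1 [← h]
      exact neg_add_cancel w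
    have h3 : ((2 : ZMod 3) * 2) • w = 0 := by rw [mul_smul, h2, smul_zero]
    have h4 : (2 : ZMod 3) * 2 = 1 := by decide
    rwa [h4, one_smul] at h3
  have hbinj : ∀ w : V, ρ b w = 0 → w = 0 := by
    intro w h
    have h1 : ρ b⁻¹ (ρ b w) = w := by
      rw [← Module.End.mul_apply, ← map_mul, inv_mul_cancel, map_one, Module.End.one_apply]
    rw [h, map_zero] at h1
    exact h1.symm
  have hw₂ : w₂ ≠ 0 := by
    rw [← hbw₁]
    exact fun h => hw₁ (hbinj _ h)
  have hw₃ : w₃ ≠ 0 := by
    rw [← hbw₂]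
    exact fun h => hw₂ (hbinj _ h)
  -- facts on `z`
  have hz1 : z ≠ 1 := by
    intro h
    have h1 := hzneg w₁
    rw [h, map_one, Module.End.one_apply] at h1
    exact hw₁ (hneg w₁ h1.symm)
  have hzz : z * z = 1 := by
    apply hS.faith
    apply LinearMap.ext
    intro v
    rw [map_mul, Module.End.mul_apply, hzneg, hzneg, neg_neg, map_one, Module.End.one_apply]
  have hzc : ∀ g : G, z * g = g * z := by
    intro g
    apply hS.faith
    apply LinearMap.ext
    intro v
    rw [map_mul, map_mul, Module.End.mul_apply, Module.End.mul_apply, hzneg, hzneg, map_neg]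
  have hzQ : z ∉ Q := by
    intro h
    rcases hQall z h with h1 | h1 | h1 | h1
    · exact hz1 h1
    · have h2 := hzneg w₁
      rw [h1, h11] at h2
      exact hw₁ (hneg w₁ h2.symm)
    · have h2 := hzneg w₂
      rw [h1, h22] at h2
      exact hw₂ (hneg w₂ h2.symm)
    · have h2 := hzneg w₃
      rw [h1, map_mul, Module.End.mul_apply, h23, map_neg, h13, neg_neg] at h2
      exact hw₃ (hneg w₃ h2.symm)
  have hord : orderOf z = 2 := orderOf_eq_prime (by rw [pow_two]; exact hzz) hz1
  right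
  refine ⟨?_, hcard, ?_⟩
  · -- `R` is extraspecial
    haveI : Fact (Nat.Prime 2) := ⟨Nat.prime_two⟩
    obtain ⟨z', hz'⟩ : ∃ z' : ↥R, (z' : G) = z := ⟨⟨z, hzR⟩, rfl⟩
    have hz'1 : z' ≠ 1 := by
      intro h
      apply hz1
      rw [← hz', h]
      rfl
    have hz'z' : z' ^ 2 = 1 := by
      apply Subtype.ext
      rw [Subgroup.coe_pow, hz', pow_two, hzz]
      rfl
    have hord' : orderOf z' = 2 := orderOf_eq_prime hz'z' hz'1
    apply Cfsg.Agent.S3074.extraspecial_of 2
      (IsPGroup.of_card (n := 5) (by rw [hcard]; norm_num)) (Subgroup.zpowers z')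
    · rw [Subgroup.zpowers_le, Subgroup.mem_center_iff]
      intro g
      apply Subtype.ext
      rw [Subgroup.coe_mul, Subgroup.coe_mul, hz']
      exact (hzc g).symm
    · rw [Nat.card_zpowers, hord']
    · intro x
      rcases hsq x x.2 with h | h
      · have h1 : x ^ 2 = 1 := by
          apply Subtype.ext
          rw [Subgroup.coe_pow, pow_two, h]
          rfl
        rw [h1]
        exact Subgroup.one_mem _
      · have h1 : x ^ 2 = z' := by
          apply Subtype.ext
          rw [Subgroup.coe_pow, pow_two, h, hz']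
        rw [h1]
        exact Subgroup.mem_zpowers z'
    · intro x y
      rcases hcm x x.2 y y.2 with h | h
      · have h1 : x * y * x⁻¹ * y⁻¹ = 1 := by
          apply Subtype.ext
          show (x : G) * (y : G) * (x : G)⁻¹ * (y : G)⁻¹ = 1
          rw [h]
          group
        rw [h1]
        exact Subgroup.one_mem _
      · have h1 : x * y * x⁻¹ * y⁻¹ = z' := by
          apply Subtype.ext
          show (x : G) * (y : G) * (x : G)⁻¹ * (y : G)⁻¹ = (z' : G)
          rw [h, hz']
          group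
        rw [h1]
        exact Subgroup.mem_zpowers z'
    · by_contra hab
      push Not at hab
      have hle : R ≤ Subgroup.zpowers z := by
        intro x hx
        rcases hcen x hx (fun y hy => congrArg Subtype.val (hab ⟨x, hx⟩ ⟨y, hy⟩)) with h | h
        · rw [h]
          exact Subgroup.one_mem _
        · rw [h]
          exact Subgroup.mem_zpowers z
      have h1 := Subgroup.card_le_of_le hle
      rw [hcard, Nat.card_zpowers, hord] at h1
      omega
    · intro x hx
      rw [Subgroup.mem_center_iff] at hx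
      rcases hcen x x.2 (fun y hy => (congrArg Subtype.val (hx ⟨y, hy⟩)).symm) with h | h
      · have h1 : x = 1 := Subtype.ext h
        rw [h1]
        exact Subgroup.one_mem _
      · have h1 : x = z' := Subtype.ext (by rw [h, hz'])
        rw [h1]
        exact Subgroup.mem_zpowers z'
  · -- the elementary abelian subgroup `Q × ⟨z⟩` of order 8
    have hQcomm : ∀ q ∈ Q, ∀ q' ∈ Q, q * q' = q' * q := by
      intro q hq q' hq'
      have h1 := hS.Q2 (q * q') (Q.mul_mem hq hq')
      have h2 := hS.Q2 q hq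
      have h3 := hS.Q2 q' hq'
      calc q * q' = q * q' * (q' * q' * (q * q)) := by rw [h2, h3, mul_one, mul_one]
        _ = (q * q' * (q * q'))⁻¹ * (q * q' * (q * q')) * (q' * q) := by
            rw [h1]
            have h4 : q⁻¹ = q := inv_eq_of_mul_eq_one_left h2
            have h5 : q'⁻¹ = q' := inv_eq_of_mul_eq_one_left h3
            calc q * q' * (q' * q' * (q * q)) = q * (q' * q') * q' * (q * q) := by group
              _ = q * q' * (q * q) := by rw [h3, mul_one]
              _ = q * q' * (q * q') * (q'⁻¹ * q) := by group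
              _ = q' * q := by rw [h1, one_mul, h5]
              _ = (1 : G)⁻¹ * 1 * (q' * q) := by group
        _ = q' * q := by rw [inv_mul_cancel, one_mul]
    refine ⟨timesZ Q z hzz hzc, ?_, ⟨?_, ?_⟩, ?_⟩
    · rintro a ⟨q, hq, h | h⟩
      · rw [h]
        exact hS.QR hq
      · rw [h]
        exact R.mul_mem (hS.QR hq) hzR
    · -- commutative
      have hcomm : ∀ a ∈ timesZ Q z hzz hzc, ∀ a' ∈ timesZ Q z hzz hzc, a * a' = a' * a := by
        rintro a ⟨q, hq, h | h⟩ a' ⟨q', hq', h' | h'⟩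
        · rw [h, h']
          exact hQcomm q hq q' hq'
        · rw [h, h', ← mul_assoc, hQcomm q hq q' hq', mul_assoc, mul_assoc, hzc q]
        · rw [h, h', mul_assoc, hzc q', ← mul_assoc, hQcomm q hq q' hq', mul_assoc]
        · rw [h, h', mul_assoc, ← mul_assoc z q' z, hzc q', mul_assoc q' z z, ← mul_assoc,
            hQcomm q hq q' hq', mul_assoc q' z, ← mul_assoc z q z, hzc q, mul_assoc q z z,
            ← mul_assoc q' q]
      exact ⟨⟨fun a a' => Subtype.ext (hcomm a a.2 a' a'.2)⟩⟩
    · rintro a ⟨q, hq, h | h⟩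
      · rw [h, pow_two]
        exact hS.Q2 q hq
      · rw [h, pow_two, mul_assoc, ← mul_assoc z q z, hzc q, mul_assoc q z z, hzz, mul_one]
        exact hS.Q2 q hq
    · rw [card_timesZ Q z hzz hzc hzQ, hS.Q4]

end Cfsg.Agent.Lib.Helper34.S4415
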